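import Cfsg.Agent.H386.Rg.D2
import Cfsg.Agent.ClassicalGeometry.TwoFamilies

/-!
# S3691, residual case F-D+2, `q` and `m` even: involutions commuting with the element `y` of order `r_(m-1)` (helper100)
-/

set_option autoImplicit false
set_option linter.unusedSectionVars false

namespace Cfsg.Agent.H100.D2

open QuadraticMap Module Cfsg.Agent.H386.Rg

universe u v

variable {F : Type u} {V : Type v} [Field F] [AddCommGroup V] [Module F V] {Q : QuadraticForm F V}

/-- powers of an element with `y x = x + z`, `y z = z` -/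
theorem pow_shift {y : V ≃ₗ[F] V} {x z : V} (h1 : y x = x + z) (h2 : y z = z) (n : ℕ) : (y ^ n) x = x + n • z := by
  induction n with
  | zero => rw [pow_zero, zero_nsmul, add_zero]; rfl
  | succ n ih =>
    rw [pow_succ']
    change y ((y ^ n) x) = _
    rw [ih, map_add, map_nsmul, h1, h2, succ_nsmul]
    abel

/-- in characteristic two elements of odd order are semisimple: `y x = x + z`, `y z = z` implies `z = 0` -/
theorem shift_zero (h2 : (2 : F) = 0) {y : V ≃ₗ[F] V} {r : ℕ} (hr : Odd r) (hy : y ^ r = 1) {x z : V} (h1 : y x = x + z)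
    (hz : y z = z) : z = 0 := by
  have h3 := pow_shift h1 hz r
  rw [hy] at h3
  have h4 : (1 : V ≃ₗ[F] V) x = x := rfl
  rw [h4] at h3
  have h5 : r • z = 0 := by
    have : x + r • z = x + 0 := by rw [← h3, add_zero]
    exact add_left_cancel this
  obtain ⟨k, rfl⟩ := hr
  have h6 : (2 : ℕ) • z = 0 := by
    rw [← Nat.cast_smul_eq_nsmul F, Nat.cast_ofNat, h2, zero_smul]
  rw [add_nsmul, mul_nsmul, h6, nsmul_zero, zero_add, one_nsmul] at h5
  exact h5

/-- the dimension of a `y`-invariant subspace without fixed vectors -/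
theorem dvd_finrank [Finite F] [FiniteDimensional F V] {y : V ≃ₗ[F] V} {r : ℕ} (hr : r.Prime) (hy : y ^ r = 1)
    (U : Submodule F V) (hU : ∀ u ∈ U, y u ∈ U) (hfix : ∀ u ∈ U, y u = u → u = 0) :
    orderOf ((Nat.card F : ℕ) : ZMod r) ∣ finrank F U := by
  have := Fact.mk hr
  have hfV : Finite V := Module.finite_of_finite F
  have hfU : Finite U := inferInstance
  have hUn : ∀ n : ℕ, ∀ u ∈ U, (y ^ n) u ∈ U := by
    intro n
    induction n with
    | zero => intro u hu; exact hu
    | succ n ih =>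
      intro u hu
      rw [pow_succ']
      exact hU _ (ih u hu)
  have hfin : IsOfFinOrder y := isOfFinOrder_iff_pow_eq_one.2 ⟨r, hr.pos, hy⟩
  have hUz : ∀ g ∈ Subgroup.zpowers y, ∀ u ∈ U, g u ∈ U := by
    intro g hg u hu
    obtain ⟨n, rfl⟩ := hfin.mem_powers_iff_mem_zpowers.2 hg
    exact hUn n u hu
  letI : MulAction (Subgroup.zpowers y) U :=
    { smul := fun g u => ⟨(g : V ≃ₗ[F] V) u, hUz g g.2 u u.2⟩
      one_smul := fun u => rfl
      mul_smul := fun a b u => rfl }
  have hp : IsPGroup r (Subgroup.zpowers y) := by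
    rintro ⟨g, hg⟩
    obtain ⟨n, rfl⟩ := hfin.mem_powers_iff_mem_zpowers.2 hg
    refine ⟨1, Subtype.ext ?_⟩
    change ((y ^ n) ^ r ^ 1 : V ≃ₗ[F] V) = 1
    rw [pow_one, ← pow_mul, mul_comm, pow_mul, hy, one_pow]
  have h1 := hp.card_modEq_card_fixedPoints U
  have h2 : Nat.card (MulAction.fixedPoints (Subgroup.zpowers y) U) = 1 := by
    rw [Nat.card_eq_one_iff_unique]
    constructor
    · constructor
      rintro ⟨a, ha⟩ ⟨b, hb⟩
      have key : ∀ c : U, c ∈ MulAction.fixedPoints (Subgroup.zpowers y) U → c = 0 := by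
        intro c hc
        have h3 := hc ⟨y, Subgroup.mem_zpowers y⟩
        exact Subtype.ext (hfix c c.2 (congrArg Subtype.val h3))
      exact Subtype.ext ((key a ha).trans (key b hb).symm)
    · refine ⟨⟨0, fun g => Subtype.ext ?_⟩⟩
      exact map_zero (g : V ≃ₗ[F] V)
  rw [h2] at h1
  have h3 : Nat.card U = Nat.card F ^ finrank F U := Module.natCard_eq_pow_finrank
  rw [h3] at h1
  apply orderOf_dvd_of_pow_eq_one
  have h4 := (ZMod.natCast_eq_natCast_iff _ _ _).2 h1
  push_cast at h4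
  exact h4

/-- `t - 1` -/
def Dt (t : V ≃ₗ[F] V) : V →ₗ[F] V := (t : V →ₗ[F] V) - LinearMap.id

theorem Dt_apply (t : V ≃ₗ[F] V) (x : V) : Dt t x = t x - x := rfl

theorem polar_iso {t : V ≃ₗ[F] V} (ht : ∀ x, Q (t x) = Q x) (x y : V) : polar Q (t x) (t y) = polar Q x y := by
  unfold polar
  rw [← map_add, ht, ht, ht]

section

variable (h2 : (2 : F) = 0) {t : V ≃ₗ[F] V} (ht : ∀ x, Q (t x) = Q x) (htt : t * t = 1)
include h2 ht htt

theorem self_adj (x y : V) : polar Q (Dt t x) y = polar Q x (Dt t y) := by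
  rw [Dt_apply, Dt_apply, sub_eq_add_neg, sub_eq_add_neg, polar_add_left, polar_add_right, polar_neg_left, polar_neg_right]
  congr 1
  have h1 := polar_iso ht x (t y)
  have h3 : t (t y) = y := by
    change (t * t) y = y
    rw [htt]; rfl
  rw [h3] at h1
  exact h1

theorem D_isotropic (x y : V) : polar Q (Dt t x) (Dt t y) = 0 := by
  rw [self_adj h2 ht htt]
  have h3 : Dt t (Dt t y) = 0 := by
    rw [Dt_apply, Dt_apply, map_sub]
    have h3 : t (t y) = y := by
      change (t * t) y = y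
      rw [htt]; rfl
    rw [h3]
    have h4 : y - t y - (t y - y) = (2 : F) • (y - t y) := by rw [two_smul]; abel
    rw [h4, h2, zero_smul]
  rw [h3, polar_zero_right]

theorem polar_D (x : V) : polar Q x (Dt t x) = Q (Dt t x) := by
  have h1 : Q (x + Dt t x) = Q x := by
    rw [Dt_apply, add_sub_cancel, ht]
  unfold polar
  rw [h1]
  have h3 : Q (Dt t x) + Q (Dt t x) = 0 := by rw [← two_mul, h2, zero_mul]
  linear_combination -h3

/-- `x ↦ Q((t-1)x)` vanishes on `[V,y]` -/
theorem Q_D_comm {y : V ≃ₗ[F] V} (hy : ∀ x, Q (y x) = Q x) (hty : ∀ x, t (y x) = y (t x)) (x : V) :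
    Q (Dt t (Dt y x)) = 0 := by
  have h1 : Dt t (Dt y x) = Dt t (y x) + -Dt t x := by
    rw [← map_neg, ← map_add, Dt_apply y, sub_eq_add_neg]
  have h3 : Dt t (y x) = y (Dt t x) := by
    rw [Dt_apply, Dt_apply, map_sub, hty]
  have h4 : polar Q (Dt t (y x)) (-Dt t x) = 0 := by
    rw [polar_neg_right, D_isotropic h2 ht htt, neg_zero]
  have h5 : Q (Dt t (y x) + -Dt t x) = Q (Dt t (y x)) + Q (-Dt t x) := by
    have h6 : polar Q (Dt t (y x)) (-Dt t x) = Q (Dt t (y x) + -Dt t x) - Q (Dt t (y x)) - Q (-Dt t x) := rfl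
    rw [h4] at h6
    linear_combination -h6
  rw [h1, h5, QuadraticMap.map_neg, h3, hy, ← two_mul, h2, zero_mul]

end

/-- the form `(x, x') ↦ (Nx, D N x')` -/
def bet (Q : QuadraticForm F V) (D N : V →ₗ[F] V) : LinearMap.BilinForm F V :=
  (polarBilin Q).compl₁₂ N (D ∘ₗ N)

theorem bet_apply (D N : V →ₗ[F] V) (x y : V) : bet Q D N x y = polar Q (N x) (D (N y)) := rfl

theorem two_eq_zero [Finite F] {p f : ℕ} (hF : Nat.card F = p ^ f) (hp : p.Prime) (hp2 : p = 2) : (2 : F) = 0 := by
  have := Fact.mk hp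
  have := Fintype.ofFinite F
  rw [Nat.card_eq_fintype_card] at hF
  have := charP_of_card_eq_prime_pow hF
  subst hp2
  exact CharTwo.two_eq_zero

/-- the vectors of a hyperbolic plane perpendicular to a nonsingular one -/
theorem mem_span_of_perp (h2 : (2 : F) = 0) {e g : V} (hee : Q e = 0) (hgg : Q g = 0) (heg : polar Q e g = 1) {v z : V}
    (hv : Q v ≠ 0) (hve : v ∈ Submodule.span F {e, g}) (hz : z ∈ Submodule.span F {e, g}) (hvz : polar Q v z = 0) :
    z ∈ Submodule.span F {v} := by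
  obtain ⟨c, d, rfl⟩ := Submodule.mem_span_pair.1 hve
  obtain ⟨a, b, rfl⟩ := Submodule.mem_span_pair.1 hz
  have h00 : polar Q e e = 0 := by rw [polar_self, hee, smul_zero]
  have h11 : polar Q g g = 0 := by rw [polar_self, hgg, smul_zero]
  have h10 : polar Q g e = 1 := by rw [polar_comm, heg]
  have h3 : Q (c • e + d • g) = c * d := by
    have : Q (c • e + d • g) = Q (c • e) + Q (d • g) + polar Q (c • e) (d • g) := by unfold polar; abel
    rw [this, QuadraticMap.map_smul, QuadraticMap.map_smul, hee, hgg, polar_smul_left, polar_smul_right, heg, smul_zero, smul_zero,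
      smul_eq_mul, smul_eq_mul]
    ring
  have h4 : polar Q (c • e + d • g) (a • e + b • g) = c * b + d * a := by
    rw [polar_add_left, polar_add_right, polar_add_right]
    simp only [polar_smul_left, polar_smul_right, h00, h11, heg, h10, smul_eq_mul]
    ring
  rw [h3] at hv
  rw [h4] at hvz
  have hc : c ≠ 0 := fun h => hv (by rw [h, zero_mul])
  rw [Submodule.mem_span_singleton]
  refine ⟨a / c, ?_⟩
  have h5 : a / c * d = b := by
    field_simp
    linear_combination hvz - c * b * h2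
  rw [smul_add, smul_smul, smul_smul, div_mul_cancel₀ _ hc, h5]

variable [Finite F] [FiniteDimensional F V]

/-- **an involution of `K` commuting with `y` and fixing a nonsingular `y`-fixed vector is trivial** -/
theorem invol_comm {p f m : ℕ} {K : Subgroup (V ≃ₗ[F] V)} (h : D2 Q p f m K) (hp2 : p = 2) (hm : Even m) {r : ℕ} (hr : r.Prime)
    (hr2 : r ≠ 2) (hord : orderOf (p : ZMod r) = f * (m - 1)) {y : V ≃ₗ[F] V} (hyK : y ∈ K) (hyr : orderOf y = r)
    {e g : V} (hee : Q e = 0) (hgg : Q g = 0) (heg : polar Q e g = 1)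
    (hfix : ∀ w : V, y w = w ↔ w ∈ Submodule.span F {e, g}) {v : V} (hv : Q v ≠ 0) (hyv : y v = v)
    {t : V ≃ₗ[F] V} (htK : t ∈ K) (htv : t v = v) (htt : t * t = 1) (hty : t * y = y * t) : t = 1 := by
  have h2 : (2 : F) = 0 := two_eq_zero h.hF h.hp hp2
  have ht := h.iso t htK
  have hy := h.iso y hyK
  have hty' : ∀ x, t (y x) = y (t x) := fun x => LinearEquiv.congr_fun hty x
  have hyr1 : y ^ r = 1 := by rw [← hyr]; exact pow_orderOf_eq_one y
  have hodd : Odd r := hr.odd_of_ne_two hr2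
  have h5 := h.hm
  have hcomm : ∀ x, Dt t (Dt y x) = Dt y (Dt t x) := by
    intro x
    simp only [Dt_apply, map_sub, hty']
    abel
  have hNfix : ∀ x z, z = Dt y x → y z = z → z = 0 := by
    intro x z hz hyz
    refine shift_zero h2 hodd hyr1 (x := x) (z := z) ?_ hyz
    rw [hz, Dt_apply, add_sub_cancel]
  -- the rank of `(t - 1)(y - 1)` is even
  have hAlt : (bet Q (Dt t) (Dt y)).IsAlt := by
    intro x
    rw [bet_apply, polar_D h2 ht htt, Q_D_comm h2 ht htt hy hty']
  obtain ⟨k, hk⟩ := Cfsg.Agent.ClassicalGeometry.TwoFamilies.exists_finrank_eq_ker_add _ hAlt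
  have hker : LinearMap.ker (bet Q (Dt t) (Dt y)) = LinearMap.ker (Dt t ∘ₗ Dt y) := by
    ext x
    rw [LinearMap.mem_ker, LinearMap.mem_ker]
    constructor
    · intro hx
      have h3 : ∀ x', polar Q (Dt t (Dt y x)) (Dt y x') = 0 := by
        intro x'
        rw [self_adj h2 ht htt, ← bet_apply, hx]; rfl
      apply hNfix (Dt t x) _ (hcomm x)
      have h4 : ∀ x', polar Q (y (Dt t (Dt y x)) - Dt t (Dt y x)) x' = 0 := by
        intro x'
        have h6 := h3 (y.symm x')
        rw [Dt_apply y (y.symm x'), LinearEquiv.apply_symm_apply, sub_eq_add_neg, polar_add_right, polar_neg_right] at h6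
        have h7 := polar_iso hy (Dt t (Dt y x)) (y.symm x')
        rw [LinearEquiv.apply_symm_apply] at h7
        rw [sub_eq_add_neg, polar_add_left, polar_neg_left, h7]
        linear_combination -h6
      exact sub_eq_zero.1 (h.nd _ h4)
    · intro hx
      ext x'
      rw [bet_apply, ← self_adj h2 ht htt]
      change polar Q ((Dt t ∘ₗ Dt y) x) _ = _
      rw [hx, polar_zero_left]; rfl
  have hrk := LinearMap.finrank_range_add_finrank_ker (Dt t ∘ₗ Dt y)
  rw [hker] at hk
  have hU : ∀ u ∈ LinearMap.range (Dt t ∘ₗ Dt y), y u ∈ LinearMap.range (Dt t ∘ₗ Dt y) := by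
    rintro _ ⟨x, rfl⟩
    refine ⟨y x, ?_⟩
    change Dt t (Dt y (y x)) = y (Dt t (Dt y x))
    simp only [Dt_apply, map_sub, hty']
  have hUf : ∀ u ∈ LinearMap.range (Dt t ∘ₗ Dt y), y u = u → u = 0 := by
    rintro _ ⟨x, rfl⟩ hu
    exact hNfix (Dt t x) _ (hcomm x) hu
  have hd := dvd_finrank hr hyr1 _ hU hUf
  have hq : orderOf ((Nat.card F : ℕ) : ZMod r) = m - 1 := by
    rw [h.hF, Nat.cast_pow, orderOf_pow' _ (by have := h.hf; omega), hord, Nat.gcd_eq_right (dvd_mul_right f _)]
    exact Nat.mul_div_cancel_left _ h.hf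
  rw [hq] at hd
  have hle : LinearMap.range (Dt t ∘ₗ Dt y) ≤ LinearMap.range (Dt t) := by
    rintro _ ⟨x, rfl⟩
    exact ⟨Dt y x, rfl⟩
  have hDD : LinearMap.range (Dt t) ≤ LinearMap.ker (Dt t) := by
    rintro _ ⟨x, rfl⟩
    rw [LinearMap.mem_ker]
    apply h.nd
    intro w
    rw [self_adj h2 ht htt, D_isotropic h2 ht htt]
  have hr1 := LinearMap.finrank_range_add_finrank_ker (Dt t)
  have hr2' := Submodule.finrank_mono hDD
  have hr3 := Submodule.finrank_mono hle
  rw [h.dim] at hk hrk hr1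
  have h0 : finrank F (LinearMap.range (Dt t ∘ₗ Dt y)) = 0 := by
    obtain ⟨c, hc⟩ := hd
    obtain ⟨j, hj⟩ := hm
    rcases c with _ | _ | c
    · rw [hc, mul_zero]
    · rw [zero_add, mul_one] at hc
      omega
    · have h6 : (m - 1) * (c + 1 + 1) = (m - 1) * c + 2 * (m - 1) := by ring
      omega
  have hbot := Submodule.finrank_eq_zero.1 h0
  have hz : ∀ x, Dt t x ∈ Submodule.span F {v} := by
    intro x
    have h6 : Dt t (Dt y x) = 0 := by
      have : Dt t (Dt y x) ∈ LinearMap.range (Dt t ∘ₗ Dt y) := ⟨x, rfl⟩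
      rw [hbot] at this
      exact (Submodule.mem_bot F).1 this
    rw [hcomm, Dt_apply, sub_eq_zero] at h6
    refine mem_span_of_perp h2 hee hgg heg hv ((hfix v).1 hyv) ((hfix _).1 h6) ?_
    rw [← self_adj h2 ht htt, Dt_apply, htv, sub_self, polar_zero_left]
  have hle1 : LinearMap.range (Dt t) ≤ Submodule.span F {v} := by
    rintro _ ⟨x, rfl⟩
    exact hz x
  have hv0 : v ≠ 0 := by
    rintro rfl
    exact hv (map_zero Q)
  have h7 := Submodule.finrank_mono hle1
  rw [finrank_span_singleton hv0] at h7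
  have hev : Even (finrank F (LinearMap.range (Dt t))) := h.even t htK
  have h8 : finrank F (LinearMap.range (Dt t)) = 0 := by
    obtain ⟨j, hj⟩ := hev
    omega
  have h9 := Submodule.finrank_eq_zero.1 h8
  apply LinearEquiv.ext
  intro x
  have h10 : Dt t x ∈ LinearMap.range (Dt t) := ⟨x, rfl⟩
  rw [h9, Submodule.mem_bot, Dt_apply, sub_eq_zero] at h10
  exact h10

end Cfsg.Agent.H100.D2
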